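import Groth.Agent.EGA4Alg4.QuasiReg
import Groth.Agent.Ega11.RegSeqSk
import Groth.Agent.LC17.LocVanish
import Groth.Prelude.Def_RegImm

/-!
Quasi-regular ideals in Noetherian rings are regular near each point of their zero set.
-/

set_option autoImplicit false
set_option linter.style.haveILetI false

universe u

open RingTheory.Sequence MvPolynomial
open scoped Pointwise

namespace Groth.Agent.An92.Nrm

open Ega11.RegSeqSk (W)

variable {A : Type u} [CommRing A]

theorem isQuasiRegular_localization {c : ℕ} (S : Submonoid A) {B : Type u} [CommRing B]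
    [Algebra A B] [IsLocalization S B] (f : Fin c → A) (hf : CAlgX.IsQuasiRegular f) :
    CAlgX.IsQuasiRegular (algebraMap A B ∘ f) := by
  classical
  intro n P hP hev d
  obtain ⟨⟨b, hb⟩, hbP⟩ := IsLocalization.exist_integer_multiples S P.support P.coeff
  choose a ha using hbP
  let P' : MvPolynomial (Fin c) A := ∑ e ∈ P.support.attach, monomial e.1 (a e.1 e.2)
  have hmap : MvPolynomial.map (algebraMap A B) P' = C (algebraMap A B b) * P := by
    conv_rhs => rw [P.as_sum, Finset.mul_sum, ← Finset.sum_attach]
    simp only [P', map_sum, map_monomial]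
    refine Finset.sum_congr rfl fun e _ => ?_
    rw [C_mul_monomial, ha e.1 e.2]
    simp [Algebra.smul_def]
  have hhom : P'.IsHomogeneous n := IsHomogeneous.sum _ _ _ fun e _ =>
    isHomogeneous_monomial _ (by
      have := hP (mem_support_iff.mp e.2)
      rwa [Finsupp.degree_eq_weight_one])
  have hJ : Ideal.span (Set.range (algebraMap A B ∘ f)) =
      (Ideal.span (Set.range f)).map (algebraMap A B) := by
    rw [Ideal.map_span, Set.range_comp]
  have hev' : algebraMap A B (eval f P') ∈
      (Ideal.span (Set.range f) ^ (n + 1)).map (algebraMap A B) := by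
    rw [Ideal.map_pow, ← hJ, ← eval₂_id (g := f), eval₂_comp_left (algebraMap A B), RingHom.comp_id,
      ← eval_map, hmap, map_mul, eval_C]
    exact Ideal.mul_mem_left _ _ hev
  obtain ⟨t, ht, htP⟩ := (IsLocalization.algebraMap_mem_map_algebraMap_iff S _ _ _).1 hev'
  have key := hf n (C t * P') (hhom.C_mul t) (by rw [map_mul, eval_C]; exact htP) d
  rw [coeff_C_mul] at key
  rw [hJ]
  have h2 := Ideal.mem_map_of_mem (algebraMap A B) key
  rw [map_mul, ← coeff_map, hmap, coeff_C_mul, ← mul_assoc] at h2
  exact (Ideal.unit_mul_mem_iff_mem _ ((IsLocalization.map_units B ⟨t, ht⟩).mul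
    (IsLocalization.map_units B ⟨b, hb⟩))).1 h2

theorem exists_W [IsNoetherianRing A] (p : Ideal A) [p.IsPrime] :
    ∀ (xs : List A) (M : Type u) [AddCommGroup M] [Module A M] [Module.Finite A M],
      IsWeaklyRegular (LocalizedModule p.primeCompl M) xs → ∃ g, g ∉ p ∧ W g xs M
  | [], _, _, _, _, _ => ⟨1, fun h => Ideal.IsPrime.ne_top ‹_› ((Ideal.eq_top_iff_one _).2 h), trivial⟩
  | x :: xs, M, _, _, _, h => by
    classical
    rw [isWeaklyRegular_cons_iff] at h
    let S := p.primeCompl
    let L := Localization.AtPrime p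
    let K : Submodule A M := LinearMap.ker (LinearMap.lsmul A M x)
    obtain ⟨s, hs⟩ : K.FG := IsNoetherian.noetherian K
    have hk : ∀ m ∈ s, ∃ g ∈ S, g • m = 0 := fun m hm => by
      have hm' : x • m = 0 := LinearMap.mem_ker.1 (hs.le (Submodule.subset_span hm))
      have h0 : x • LocalizedModule.mkLinearMap S M m = 0 := by rw [← map_smul, hm', map_zero]
      obtain ⟨⟨g, hg⟩, hgm⟩ := (IsLocalizedModule.eq_zero_iff S (LocalizedModule.mkLinearMap S M)).1
        (h.1.right_eq_zero_of_smul h0)
      exact ⟨g, hg, hgm⟩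
    choose! g hg hgm using hk
    let e := LC17.quotLocEquiv S (M := M) x
    have e1 : IsWeaklyRegular (QuotSMulTop (algebraMap A L x) (LocalizedModule S M))
        (xs.map (algebraMap A L)) := by
      rw [isWeaklyRegular_map_algebraMap_iff]
      have he : (algebraMap A L x) • (⊤ : Submodule L (LocalizedModule S M)) =
          algebraMap A L x • (⊤ : Submodule L (LocalizedModule S M)) := rfl
      let e2 : QuotSMulTop x (LocalizedModule S M) ≃ₗ[A]
          QuotSMulTop (algebraMap A L x) (LocalizedModule S M) :=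
        (Submodule.quotEquivOfEq _ _ (by
          ext z
          simp only [Submodule.mem_smul_pointwise_iff_exists, Submodule.restrictScalars_mem,
            Submodule.mem_top, true_and, algebraMap_smul])).trans
          (Submodule.Quotient.restrictScalarsEquiv A
            (algebraMap A L x • (⊤ : Submodule L (LocalizedModule S M))))
      exact (e2.isWeaklyRegular_congr xs).1 h.2
    have e3 := (e.isWeaklyRegular_congr _).2 e1
    rw [isWeaklyRegular_map_algebraMap_iff] at e3
    obtain ⟨g', hg', hW⟩ := exists_W p xs (QuotSMulTop x M) e3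
    refine ⟨(∏ m ∈ s, g m) * g', ?_, fun m hm => ⟨1, ?_⟩, Ega11.RegSeqSk.W.mono (dvd_mul_left _ _) _ _ hW⟩
    · intro hmem
      rcases Ideal.IsPrime.mem_or_mem ‹_› hmem with h1 | h1
      · exact (prod_mem fun m hm => hg m hm : (∏ m ∈ s, g m) ∈ S) h1
      · exact hg' h1
    · rw [pow_one]
      have hm' : m ∈ Submodule.span A (s : Set M) := hs.ge (LinearMap.mem_ker.2 hm)
      clear hm
      induction hm' using Submodule.span_induction with
      | mem z hz =>
        obtain ⟨c, hc⟩ : g z ∣ (∏ m ∈ s, g m) * g' :=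
          (Finset.dvd_prod_of_mem g hz).trans (dvd_mul_right _ _)
        rw [hc, mul_comm, mul_smul, hgm z hz, smul_zero]
      | zero => simp
      | add y z _ _ hy hz => rw [smul_add, hy, hz, add_zero]
      | smul r y _ hy => rw [smul_comm, hy, smul_zero]

theorem exists_regular_away [IsNoetherianRing A] (p : Ideal A) [p.IsPrime] (rs : List A)
    (hrs : ∀ r ∈ rs, r ∈ p) (hq : CAlgX.IsQuasiRegular rs.get) :
    ∃ g, g ∉ p ∧ ∀ (B : Type u) [CommRing B] [Algebra A B], IsLocalization.Away g B →
      RingTheory.Sequence.IsRegular B (rs.map (algebraMap A B)) := by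
  let L := Localization.AtPrime p
  haveI : IsNoetherianRing L := IsLocalization.isNoetherianRing p.primeCompl L inferInstance
  have hqL := isQuasiRegular_localization p.primeCompl (B := L) rs.get hq
  have hjac : ∀ i, (algebraMap A L ∘ rs.get) i ∈ Ring.jacobson L := fun i => by
    rw [IsLocalRing.ringJacobson_eq_maximalIdeal, Function.comp_apply,
      IsLocalization.AtPrime.to_map_mem_maximal_iff L p]
    exact hrs _ (rs.get_mem i)
  have hw := EGA4Alg4.isWeaklyRegular_of_isQuasiRegular _ L _ hjac hqL
  rw [← List.map_ofFn, List.ofFn_get, isWeaklyRegular_map_algebraMap_iff] at hw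
  have e : LocalizedModule p.primeCompl A ≃ₗ[A] L :=
    IsLocalizedModule.iso p.primeCompl (Algebra.linearMap A L)
  obtain ⟨g, hg, hW⟩ := exists_W p rs A ((e.isWeaklyRegular_congr rs).2 hw)
  refine ⟨g, hg, fun B _ _ hB => ⟨?_, ?_⟩⟩
  · have h1 := Ega11.RegSeqSk.W.isWeaklyRegular rs A hW
    rw [isWeaklyRegular_map_algebraMap_iff] at h1 ⊢
    haveI : IsLocalizedModule (Submonoid.powers g) (Algebra.linearMap A B) :=
      (isLocalizedModule_iff_isLocalization' _ _).2 hB
    have e' : LocalizedModule (Submonoid.powers g) A ≃ₗ[A] B :=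
      IsLocalizedModule.iso (Submonoid.powers g) (Algebra.linearMap A B)
    exact (e'.isWeaklyRegular_congr rs).1 h1
  · rw [smul_eq_mul, Ideal.mul_top, ne_comm, ← Ideal.map_ofList,
      IsLocalization.map_algebraMap_ne_top_iff_disjoint (Submonoid.powers g) B]
    by_contra hd
    have hle : Ideal.ofList rs ≤ p := Ideal.span_le.2 hrs
    apply hg
    by_contra hgp
    exact hd (Set.disjoint_left.2 fun z ⟨n, hn⟩ hz => hgp (Ideal.IsPrime.mem_of_pow_mem ‹_› n
      ((show g ^ n = z from hn).symm ▸ hle hz)))

theorem quasi_of_regular {rs : List A} (h : RingTheory.Sequence.IsRegular A rs) :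
    CAlgX.IsQuasiRegular rs.get :=
  EGA4Alg4.isQuasiRegular_of_isWeaklyRegular _ rs.get (by rw [List.ofFn_get]; exact h.1)

end Groth.Agent.An92.Nrm
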