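import Groth.Agent.An92.Nrm.QuasiRegular
import Mathlib.AlgebraicGeometry.IdealSheaf.Subscheme

/-!
Quasi-regular ideal sheaves and immersions in locally Noetherian schemes are regular.
-/

set_option autoImplicit false

universe u

open CategoryTheory AlgebraicGeometry

namespace Groth.Agent.An92.Nrm

variable {X : Scheme.{u}}

theorem exists_basicOpen_regular [IsLocallyNoetherian X] (U : X.affineOpens) (x : X) (hx : x ∈ U.1)
    (rs : List Γ(X, U.1)) (hrs : ∀ r ∈ rs, x ∉ X.basicOpen r) (hq : CAlgX.IsQuasiRegular rs.get) :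
    ∃ g : Γ(X, U.1), x ∈ X.basicOpen g ∧ RingTheory.Sequence.IsRegular Γ(X, X.basicOpen g)
      (rs.map (X.presheaf.map (homOfLE (X.basicOpen_le g)).op)) := by
  haveI : IsNoetherianRing Γ(X, U.1) := IsLocallyNoetherian.component_noetherian U
  set p : Ideal Γ(X, U.1) :=
    (IsLocalRing.maximalIdeal (X.presheaf.stalk x)).comap (X.presheaf.germ U.1 x hx).hom
  haveI : p.IsPrime := Ideal.comap_isPrime _ _
  have hp : ∀ g, g ∉ p ↔ x ∈ X.basicOpen g := fun g => by
    rw [X.mem_basicOpen g x hx]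
    simp [p]
  obtain ⟨g, hg, hreg⟩ := exists_regular_away p rs (fun r hr => by
    by_contra h
    exact hrs r hr ((hp r).1 h)) hq
  let : Algebra Γ(X, U.1) Γ(X, X.basicOpen g) :=
    (X.presheaf.map (homOfLE (X.basicOpen_le g)).op).hom.toAlgebra
  exact ⟨g, (hp g).1 hg, hreg _ (U.2.isLocalization_basicOpen g)⟩

theorem isRegularIdeal_regular_of_quasi [IsLocallyNoetherian X] (I : X.IdealSheafData)
    (h : RegImm.IsRegularIdeal RegImm.Kind.quasi I) : RegImm.IsRegularIdeal RegImm.Kind.regular I := by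
  intro x hx
  obtain ⟨U, hxU, rs, hq, hI⟩ := h x hx
  have hrs : ∀ r ∈ rs, x ∉ X.basicOpen r := fun r hr => by
    have h1 := (Scheme.IdealSheafData.mem_support_iff_of_mem hxU).1 hx
    exact (Scheme.mem_zeroLocus_iff X _ _).1 h1 r (hI ▸ Ideal.subset_span hr)
  obtain ⟨g, hxg, hreg⟩ := exists_basicOpen_regular U x hxU rs hrs hq
  refine ⟨X.affineBasicOpen g, hxg, _, hreg, ?_⟩
  rw [← Scheme.IdealSheafData.map_ideal I (U := X.affineBasicOpen g) (V := U) (X.basicOpen_le g), hI,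
    Ideal.map_ofList]
  rfl

theorem ker_app_basicOpen {Z : Scheme.{u}} (i : Z ⟶ X) (U : X.affineOpens)
    (hZ : IsAffineOpen (i ⁻¹ᵁ U.1)) (g : Γ(X, U.1)) :
    RingHom.ker (i.app (X.basicOpen g)).hom =
      (RingHom.ker (i.app U.1).hom).map (X.presheaf.map (homOfLE (X.basicOpen_le g)).op).hom := by
  let : Algebra Γ(X, U.1) Γ(X, X.basicOpen g) :=
    (X.presheaf.map (homOfLE (X.basicOpen_le g)).op).hom.toAlgebra
  have := U.2.isLocalization_basicOpen g
  have hle : i ⁻¹ᵁ X.basicOpen g ≤ i ⁻¹ᵁ U.1 := fun z hz => X.basicOpen_le g hz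
  have nat : ∀ a, (i.app (X.basicOpen g)).hom (algebraMap Γ(X, U.1) Γ(X, X.basicOpen g) a) =
      Z.presheaf.map (homOfLE hle).op ((i.app U.1).hom a) := fun a =>
    congrArg (fun φ => φ.hom a) (i.naturality (homOfLE (X.basicOpen_le g)).op)
  apply le_antisymm
  · intro z hz
    obtain ⟨⟨a, s⟩, has⟩ := IsLocalization.surj (Submonoid.powers g) z
    refine (Ideal.mul_unit_mem_iff_mem _ (IsLocalization.map_units Γ(X, X.basicOpen g) s)).1 ?_
    rw [has]
    have h1 : Z.presheaf.map (homOfLE hle).op ((i.app U.1).hom a) = 0 := by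
      rw [← nat, ← has, map_mul, RingHom.mem_ker.1 hz, zero_mul]
    obtain ⟨n, hn⟩ := exists_pow_mul_eq_zero_of_res_basicOpen_eq_zero_of_isCompact Z
      (U := i ⁻¹ᵁ U.1) hZ.isCompact ((i.app U.1).hom a) ((i.app U.1).hom g) (by
        have e : Z.basicOpen ((i.app U.1).hom g) = i ⁻¹ᵁ X.basicOpen g := (i.preimage_basicOpen g).symm
        have h2 := congrArg (Z.presheaf.map (homOfLE e.le).op) h1
        rw [map_zero, ← ConcreteCategory.comp_apply, ← Z.presheaf.map_comp] at h2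
        exact h2)
    have hmem : g ^ n * a ∈ RingHom.ker (i.app U.1).hom := by
      rw [RingHom.mem_ker, map_mul, map_pow]
      exact hn
    have h3 := Ideal.mem_map_of_mem (algebraMap Γ(X, U.1) Γ(X, X.basicOpen g)) hmem
    rw [map_mul] at h3
    exact (Ideal.unit_mul_mem_iff_mem _ (IsLocalization.map_units Γ(X, X.basicOpen g)
      (⟨g ^ n, n, rfl⟩ : Submonoid.powers g))).1 h3
  · rw [Ideal.map_le_iff_le_comap]
    intro a ha
    rw [Ideal.mem_comap, RingHom.mem_ker]
    exact (nat a).trans (by rw [RingHom.mem_ker.1 ha, map_zero])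

theorem isClosedImmersion_restrict_basicOpen {Z : Scheme.{u}} (i : Z ⟶ X) (U : X.Opens)
    [IsClosedImmersion (i ∣_ U)] (g : Γ(X, U)) : IsClosedImmersion (i ∣_ X.basicOpen g) := by
  have e : U.ι ''ᵁ (U.ι ⁻¹ᵁ X.basicOpen g) = X.basicOpen g := by
    rw [Scheme.Hom.image_preimage_eq_opensRange_inf, Scheme.Opens.opensRange_ι,
      inf_eq_right.2 (X.basicOpen_le g)]
  have h1 : IsClosedImmersion ((i ∣_ U) ∣_ (U.ι ⁻¹ᵁ X.basicOpen g)) := inferInstance
  have h2 := (MorphismProperty.arrow_mk_iso_iff @IsClosedImmersion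
    (morphismRestrictRestrict i U (U.ι ⁻¹ᵁ X.basicOpen g))).1 h1
  rwa [e] at h2

theorem isRegularImmersion_regular_iff_quasi {Y : Scheme.{u}} [IsLocallyNoetherian X] (j : Y ⟶ X) :
    RegImm.IsRegularImmersion RegImm.Kind.regular j ↔ RegImm.IsRegularImmersion RegImm.Kind.quasi j := by
  constructor
  · rintro ⟨hj, h⟩
    refine ⟨hj, fun z => ?_⟩
    obtain ⟨U, hzU, hci, rs, hreg, hker⟩ := h z
    exact ⟨U, hzU, hci, rs, quasi_of_regular hreg, hker⟩
  · rintro ⟨hj, h⟩
    refine ⟨hj, fun z => ?_⟩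
    obtain ⟨U, hzU, hci, rs, hq, hker⟩ := h z
    have hrs : ∀ r ∈ rs, j z ∉ X.basicOpen r := fun r hr hmem => by
      have h1 : (j.app U.1).hom r = 0 :=
        RingHom.mem_ker.1 (hker ▸ Ideal.subset_span hr)
      have h2 : z ∈ j ⁻¹ᵁ X.basicOpen r := hmem
      rw [Scheme.Hom.preimage_basicOpen] at h2
      rw [show (j.app U.1) r = 0 from h1, Scheme.basicOpen_zero] at h2
      exact h2
    obtain ⟨g, hzg, hreg⟩ := exists_basicOpen_regular U (j z) hzU rs hrs hq
    haveI := hci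
    haveI : IsAffine U.1.toScheme := U.2
    have hZ : IsAffineOpen (j ⁻¹ᵁ U.1) := isAffine_of_isAffineHom (j ∣_ U.1)
    refine ⟨X.affineBasicOpen g, hzg, isClosedImmersion_restrict_basicOpen j U.1 g, _, hreg, ?_⟩
    refine (ker_app_basicOpen j U hZ g).trans ?_
    rw [hker, Ideal.map_ofList]
    rfl

end Groth.Agent.An92.Nrm
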